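import Groth.Prelude.Def_ArtFun3
import Groth.Agent.H24Art.PowerSeries
import Groth.Agent.H24Art.Minimal
import Mathlib.LinearAlgebra.Contraction

/-! The obstruction theory of a quotient of a power series ring over a field. -/

set_option autoImplicit false
set_option linter.style.haveILetI false

universe u v

open CategoryTheory IsLocalRing TensorProduct
open ArtFun ArtFun.Art Groth.Agent.H24Art

noncomputable section

namespace Groth.Agent.H24Obs

variable (k : Type u) [Field k]

/-- The field as a coefficient ring. -/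
@[reducible] def fieldCRing : CRing k k where
  carrier := k
  res := AlgHom.id k k
  res_surjective := Function.surjective_id
  isAdicComplete := by
    rw [IsLocalRing.maximalIdeal_eq_bot]
    exact IsAdicComplete.bot k

variable {k} {d : ℕ}

theorem ker_algHom (ρ : MvPowerSeries (Fin d) k →ₐ[k] k) :
    RingHom.ker (ρ : MvPowerSeries (Fin d) k →+* k) = maximalIdeal _ :=
  IsLocalRing.eq_maximalIdeal (RingHom.ker_isMaximal_of_surjective (ρ : MvPowerSeries (Fin d) k →+* k) fun c =>
    ⟨algebraMap k _ c, ρ.commutes c⟩)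

theorem algHom_to_k (ρ : MvPowerSeries (Fin d) k →ₐ[k] k) : ρ = psRes (fieldCRing k) d := by
  refine AlgHom.ext fun s => ?_
  have h : s - algebraMap k _ (ρ s) ∈ maximalIdeal (MvPowerSeries (Fin d) k) := by
    rw [← ker_algHom ρ, RingHom.mem_ker]
    change ρ (s - _) = 0
    rw [map_sub, AlgHom.commutes]
    exact sub_self _
  rw [← ker_algHom (psRes (fieldCRing k) d : MvPowerSeries (Fin d) k →ₐ[k] k), RingHom.mem_ker] at h
  change psRes (fieldCRing k) d (s - _) = 0 at h
  rw [map_sub, AlgHom.commutes, sub_eq_zero] at h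
  exact h.symm

theorem X_mem (i : Fin d) : (MvPowerSeries.X i : MvPowerSeries (Fin d) k) ∈ maximalIdeal _ := by
  rw [← ker_algHom (psRes (fieldCRing k) d : MvPowerSeries (Fin d) k →ₐ[k] k), RingHom.mem_ker]
  exact res_psX (R := fieldCRing k) i

variable {R : Type u} [CommRing R] [Algebra k R] (resR : R →ₐ[k] k)
  (π : MvPowerSeries (Fin d) k →ₐ[k] R) (hπ : Function.Surjective π)

theorem exists_lift {C' C : Art k k} (p : C' ⟶ C) (hp : Function.Surjective p) (φ : HomSet R resR C) :
    ∃ χ : MvPowerSeries (Fin d) k →ₐ[k] C', C'.res.comp χ = psRes (fieldCRing k) d ∧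
      ∀ s, p (χ s) = φ.1 (π s) := by
  choose a ha using fun i : Fin d => hp (φ.1 (π (MvPowerSeries.X i)))
  let ψ : HomSet (pscr (fieldCRing k) d).carrier (pscr (fieldCRing k) d).res C :=
    ⟨φ.1.comp π, (AlgHom.comp_assoc _ _ _).symm.trans (algHom_to_k (C.res.comp φ.1 |>.comp π))⟩
  have hres : ∀ i, C'.res (a i) = 0 := fun i => by
    rw [← res_app p, ha]
    exact (AlgHom.congr_fun ψ.2 (MvPowerSeries.X i)).trans (res_psX (R := fieldCRing k) i)
  let u0 : HomSet (fieldCRing k).carrier (fieldCRing k).res C' :=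
    ⟨Algebra.ofId k C', AlgHom.ext fun c => C'.res.commutes c⟩
  obtain ⟨χ, -, hχX⟩ := ps_exists_homSet (R := fieldCRing k) u0 a hres
  have heq : HomSet.map p χ = ψ := by
    refine ps_homSet_ext (Subsingleton.elim (α := k →ₐ[k] C.carrier) _ _) fun i => ?_
    change p (χ.1 (psX i)) = φ.1 (π (MvPowerSeries.X i))
    rw [hχX, ha]
  exact ⟨χ.1, χ.2, fun s => AlgHom.congr_fun (congrArg Subtype.val heq) s⟩

theorem eq_on_sq {C' C : Art k k} {p : C' ⟶ C} (hp : IsSemismallExt p)
    (χ χ' : MvPowerSeries (Fin d) k →ₐ[k] C') (h : ∀ s, p (χ s) = p (χ' s))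
    {x : MvPowerSeries (Fin d) k} (hx : x ∈ maximalIdeal (MvPowerSeries (Fin d) k) ^ 2) : χ x = χ' x := by
  have hm : ∀ (g : MvPowerSeries (Fin d) k →ₐ[k] C'), ∀ a ∈ maximalIdeal (MvPowerSeries (Fin d) k),
      g a ∈ maximalIdeal C' := fun g a ha => by
    rw [C'.mem_maximalIdeal_iff]
    rw [← ker_algHom (C'.res.comp g), RingHom.mem_ker] at ha
    exact ha
  have hz : ∀ a ∈ maximalIdeal C', ∀ b, p b = 0 → a * b = 0 := fun a ha b hb => by
    rw [← Ideal.mem_bot, ← hp.2]
    exact Ideal.mul_mem_mul ha (RingHom.mem_ker.mpr hb)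
  rw [pow_two] at hx
  refine Submodule.mul_induction_on hx (fun a ha b hb => ?_) fun a b ha hb => by rw [map_add, map_add, ha, hb]
  have e1 := hz _ (hm χ' a ha) (χ b - χ' b) (by rw [map_sub, h, sub_self])
  have e2 := hz _ (hm χ b hb) (χ a - χ' a) (by rw [map_sub, h, sub_self])
  rw [map_mul, map_mul]
  linear_combination e1 + e2

variable {I : Ideal (MvPowerSeries (Fin d) k)}

/-- The obstruction space of `S/I`. -/
abbrev ConormalFibre (I : Ideal (MvPowerSeries (Fin d) k)) : Type u :=
  ↥I ⧸ (maximalIdeal (MvPowerSeries (Fin d) k) • (⊤ : Submodule (MvPowerSeries (Fin d) k) ↥I))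

theorem finite_conormalFibre (I : Ideal (MvPowerSeries (Fin d) k)) : Module.Finite k (ConormalFibre I) := by
  classical
  haveI : Module.Finite (MvPowerSeries (Fin d) k) (ConormalFibre I) := inferInstance
  obtain ⟨s, hs⟩ := (Module.finite_def (R := MvPowerSeries (Fin d) k) (M := ConormalFibre I)).mp inferInstance
  refine ⟨⟨s, eq_top_iff.mpr fun x hxt => ?_⟩⟩
  have hx : x ∈ Submodule.span (MvPowerSeries (Fin d) k) (s : Set (ConormalFibre I)) := hs ▸ Submodule.mem_top
  clear hxt
  induction hx using Submodule.span_induction with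
  | mem x hx => exact Submodule.subset_span hx
  | zero => exact zero_mem _
  | add x y _ _ hx hy => exact add_mem hx hy
  | smul a x _ hx =>
    obtain ⟨x, rfl⟩ := Submodule.Quotient.mk_surjective _ x
    let ρ : MvPowerSeries (Fin d) k →ₐ[k] k := psRes (fieldCRing k) d
    have ha : a - algebraMap k _ (ρ a) ∈ maximalIdeal (MvPowerSeries (Fin d) k) := by
      rw [← ker_algHom ρ, RingHom.mem_ker]
      change ρ (a - _) = 0
      rw [map_sub, AlgHom.commutes]
      exact sub_self _
    have h2 : (a - algebraMap k _ (ρ a)) • x ∈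
        (maximalIdeal (MvPowerSeries (Fin d) k) • (⊤ : Submodule (MvPowerSeries (Fin d) k) ↥I)) :=
      Submodule.smul_mem_smul ha Submodule.mem_top
    rw [← Submodule.Quotient.mk_eq_zero, Submodule.Quotient.mk_smul, sub_smul, algebraMap_smul, sub_eq_zero] at h2
    rw [h2]
    exact Submodule.smul_mem _ _ hx

theorem pi_coe {J : Ideal (MvPowerSeries (Fin d) k)} (hker : RingHom.ker π = J) (x : J) :
    π (x : MvPowerSeries (Fin d) k) = 0 :=
  RingHom.mem_ker.mp (hker.ge x.2)

theorem exists_restriction (hπ : Function.Surjective π) (hker : RingHom.ker π = I)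
    (hI : I ≤ maximalIdeal (MvPowerSeries (Fin d) k) ^ 2) {C' C : Art k k} (p : C' ⟶ C)
    (hp : IsSemismallExt p) (φ : HomSet R resR C) :
    ∃ ℓ : ConormalFibre I →ₗ[k] ↥(RingHom.ker p.toAlgHom),
      ∀ χ : MvPowerSeries (Fin d) k →ₐ[k] C', (∀ s, p (χ s) = φ.1 (π s)) →
        ∀ x : I, (ℓ (Submodule.Quotient.mk x) : C') = χ x := by
  obtain ⟨χ₀, -, hχp⟩ := exists_lift resR π p hp.1 φ
  let g : I →ₗ[k] ↥(RingHom.ker p.toAlgHom) :=
    { toFun := fun x => ⟨χ₀ x, RingHom.mem_ker.mpr (show p (χ₀ x) = 0 by rw [hχp, pi_coe π hker, map_zero])⟩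
      map_add' := fun x y => Subtype.ext (map_add χ₀ _ _)
      map_smul' := fun c x => Subtype.ext (by
        change χ₀ ((c • x : I) : MvPowerSeries (Fin d) k) = c • χ₀ x
        rw [Submodule.coe_smul_of_tower, map_smul]) }
  have hg : (maximalIdeal (MvPowerSeries (Fin d) k) • (⊤ : Submodule (MvPowerSeries (Fin d) k) ↥I)).restrictScalars k
      ≤ LinearMap.ker g := by
    intro x hx
    rw [Submodule.restrictScalars_mem] at hx
    induction hx using Submodule.smul_induction_on' with
    | smul a ha z _ => ?_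
    | add a _ b _ ha hb => exact add_mem ha hb
    refine LinearMap.mem_ker.mpr (Subtype.ext ?_)
    change χ₀ (a * z) = 0
    rw [map_mul, ← Ideal.mem_bot, ← hp.2]
    refine Ideal.mul_mem_mul ?_ (g z).2
    rw [C'.mem_maximalIdeal_iff]
    rw [← ker_algHom (C'.res.comp χ₀), RingHom.mem_ker] at ha
    exact ha
  refine ⟨(((maximalIdeal (MvPowerSeries (Fin d) k) •
      (⊤ : Submodule (MvPowerSeries (Fin d) k) ↥I)).restrictScalars k).liftQ g hg).comp
      (Submodule.Quotient.restrictScalarsEquiv k _).symm.toLinearMap, fun χ hχ x => ?_⟩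
  exact eq_on_sq hp χ₀ χ (fun s => by rw [hχp, hχ]) (hI x.2)

/-- `Hom(Ĩ, J) ≅ Ĩ^∨ ⊗ J`. -/
def dualEquiv (I : Ideal (MvPowerSeries (Fin d) k)) (N : Type u) [AddCommGroup N] [Module k N] :
    Module.Dual k (ConormalFibre I) ⊗[k] N ≃ₗ[k] (ConormalFibre I →ₗ[k] N) :=
  haveI := finite_conormalFibre I
  haveI : Module.Free k (ConormalFibre I) := Module.Free.of_divisionRing k _
  dualTensorHomEquiv k (ConormalFibre I) N

theorem dualEquiv_lTensor (I : Ideal (MvPowerSeries (Fin d) k)) {N N' : Type u} [AddCommGroup N] [Module k N]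
    [AddCommGroup N'] [Module k N'] (f : N →ₗ[k] N') (z : Module.Dual k (ConormalFibre I) ⊗[k] N) :
    dualEquiv I N' (LinearMap.lTensor _ f z) = f.comp (dualEquiv I N z) := by
  induction z using TensorProduct.induction_on with
  | zero => rw [map_zero, map_zero, map_zero, LinearMap.comp_zero]
  | tmul a x => refine LinearMap.ext fun w => ?_; simp [dualEquiv]
  | add x y hx hy => rw [map_add, map_add, map_add, hx, hy, LinearMap.comp_add]

include hπ in
theorem hasObsTheory (hker : RingHom.ker π = I) (hI : I ≤ maximalIdeal (MvPowerSeries (Fin d) k) ^ 2) :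
    HasObsTheory (hR R resR) (Module.Dual k (ConormalFibre I)) := by
  choose ℓ hℓ using fun (C' C : Art k k) (p : C' ⟶ C) (hp : IsSemismallExt p) (φ : HomSet R resR C) =>
    exists_restriction resR π hπ hker hI p hp φ
  refine ⟨{ obs := fun {C' C} p hp φ => (dualEquiv I _).symm (ℓ C' C p hp φ)
            obs_eq_zero_iff := fun {C' C} p hp φ => ?_
            obs_quot := fun {C' C} p hp K hK hKJ hq φ => ?_ }⟩
  · rw [LinearEquiv.map_eq_zero_iff]
    obtain ⟨χ, hχr, hχp⟩ := exists_lift resR π p hp.1 φ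
    constructor
    · intro h0
      let g := π.liftOfSurjective hπ χ fun a ha => by
        have := hℓ C' C p hp φ χ hχp ⟨a, hker.le ha⟩
        rw [h0] at this
        exact this.symm
      have hg : ∀ s, g (π s) = χ s := fun s => AlgHom.liftOfSurjective_apply _ _ _ _ _
      refine ⟨⟨g, AlgHom.ext fun r => ?_⟩, Subtype.ext (AlgHom.ext fun r => ?_)⟩
      · obtain ⟨s, rfl⟩ := hπ r
        rw [AlgHom.comp_apply, hg]
        exact (AlgHom.congr_fun hχr s).trans (AlgHom.congr_fun (algHom_to_k (resR.comp π)) s).symm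
      · obtain ⟨s, rfl⟩ := hπ r
        change p (g (π s)) = φ.1 (π s)
        rw [hg, hχp]
    · rintro ⟨ψ, hψ⟩
      refine LinearMap.ext fun z => Subtype.ext ?_
      obtain ⟨x, rfl⟩ := Submodule.Quotient.mk_surjective _ z
      rw [hℓ C' C p hp φ (ψ.1.comp π) (fun s => AlgHom.congr_fun (congrArg Subtype.val hψ) (π s)),
        AlgHom.comp_apply, pi_coe π hker, map_zero]
      rfl
  · rw [LinearEquiv.symm_apply_eq, dualEquiv_lTensor, LinearEquiv.apply_symm_apply]
    obtain ⟨χ, -, hχp⟩ := exists_lift resR π p hp.1 φ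
    refine LinearMap.ext fun z => Subtype.ext ?_
    obtain ⟨x, rfl⟩ := Submodule.Quotient.mk_surjective _ z
    change _ = quotMk C' K hK (ℓ C' C p hp φ (Submodule.Quotient.mk x) : C')
    rw [hℓ C' C p hp φ χ hχp, hℓ _ C _ hq φ ((quotMk C' K hK).toAlgHom.comp χ) (fun s => hχp s)]
    rfl

end Groth.Agent.H24Obs
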