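import Groth.Agent.H24Obs.Core
import Groth.Agent.H24Obs.PowerSeries
import Groth.Agent.H24Adic.Basic
import Groth.Agent.H02CA.PowerSeries
import Mathlib.RingTheory.RegularLocalRing.Defs
import Mathlib.Algebra.Module.SpanRankOperations

/-! Minimal presentations and the dimension estimates of an obstruction space. -/

set_option autoImplicit false
set_option linter.style.haveILetI false

universe u v

open CategoryTheory IsLocalRing
open ArtFun ArtFun.Art Groth.Agent.H24Art

noncomputable section

namespace Groth.Agent.H24Obs

theorem exists_presentation {k : Type u} [Field k] (R : CRing k k) :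
    ∃ (d : ℕ) (π : MvPowerSeries (Fin d) k →ₐ[k] R.carrier), Function.Surjective π ∧
      RingHom.ker π ≤ maximalIdeal (MvPowerSeries (Fin d) k) ^ 2 := by
  classical
  let b := Module.finBasis (ResidueField R.carrier) (CotangentSpace R.carrier)
  let d := Module.finrank (ResidueField R.carrier) (CotangentSpace R.carrier)
  choose x hx using fun i : Fin d => (maximalIdeal R.carrier).toCotangent_surjective (b i)
  let v : Fin d → R.carrier := fun i => (x i).1
  have hker : RingHom.ker (R.res : R.carrier →+* k) = maximalIdeal R.carrier :=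
    IsLocalRing.eq_maximalIdeal (RingHom.ker_isMaximal_of_surjective (R.res : R.carrier →+* k) R.res_surjective)
  have hspan : Ideal.span (Set.range v) = maximalIdeal R.carrier := by
    have h1 : Submodule.span (ResidueField R.carrier) ((maximalIdeal R.carrier).toCotangent '' Set.range x) = ⊤ := by
      rw [← Set.range_comp, show (maximalIdeal R.carrier).toCotangent ∘ x = b from funext hx, b.span_eq]
    have h3 := congrArg (Submodule.map (maximalIdeal R.carrier).subtype)
      ((CotangentSpace.span_image_eq_top_iff (R := R.carrier)).mp h1)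
    rw [Submodule.map_top, Submodule.range_subtype, Submodule.map_span, ← Set.range_comp] at h3
    exact h3
  obtain ⟨g, -, -, hgX⟩ := ps_exists_hom (R := fieldCRing k) (n := d) R (Algebra.ofId k R.carrier)
    (AlgHom.ext fun c => R.res.commutes c) v fun i => RingHom.mem_ker.mp (hker.ge (x i).2)
  let π : MvPowerSeries (Fin d) k →ₐ[k] R.carrier := g
  have hπX : ∀ i, π (MvPowerSeries.X i) = v i := hgX
  let mS := maximalIdeal (MvPowerSeries (Fin d) k)
  have hmle : ∀ s ∈ mS, π s ∈ maximalIdeal R.carrier := fun s hs => by
    rw [← hker, RingHom.mem_ker]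
    exact RingHom.mem_ker.mp ((ker_algHom (R.res.comp π)).ge hs)
  have hle : mS.map π.toRingHom = maximalIdeal R.carrier := by
    refine le_antisymm (Ideal.map_le_iff_le_comap.mpr hmle) ?_
    rw [← hspan, Ideal.span_le]
    rintro _ ⟨i, rfl⟩
    rw [← hπX]
    exact Ideal.mem_map_of_mem _ (X_mem i)
  have hsurj : Function.Surjective π := by
    letI : Algebra (MvPowerSeries (Fin d) k) R.carrier := π.toRingHom.toAlgebra
    haveI := (pscr (fieldCRing k) d).isAdicComplete
    haveI : IsPrecomplete mS (MvPowerSeries (Fin d) k) := (inferInstance : IsAdicComplete mS (MvPowerSeries (Fin d) k)).toIsPrecomplete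
    have hsm : ∀ n : ℕ, (mS ^ n • ⊤ : Submodule (MvPowerSeries (Fin d) k) R.carrier) =
        (maximalIdeal R.carrier ^ n).restrictScalars _ := fun n => by
      rw [Ideal.smul_top_eq_map, Ideal.map_pow]
      exact congrArg (fun J : Ideal R.carrier => (J ^ n).restrictScalars _) hle
    haveI : IsHausdorff mS R.carrier := ⟨fun y hy => by
      refine R.isAdicComplete.toIsHausdorff.haus y fun n => ?_
      have := hy n
      rw [SModEq.sub_mem, sub_zero, hsm n, Submodule.restrictScalars_mem] at this
      rw [SModEq.sub_mem, sub_zero, smul_eq_mul, Ideal.mul_top]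
      exact this⟩
    have htop := Groth.Agent.H24Adic.span_eq_top_of_sup_smul_eq_top (I := mS) (fun _ : Fin 1 => (1 : R.carrier)) (by
      refine eq_top_iff.mpr fun y _ => ?_
      have h1 := hsm 1
      rw [pow_one, pow_one] at h1
      rw [h1]
      refine Submodule.mem_sup.mpr ⟨algebraMap k R.carrier (R.res y), ?_, y - algebraMap k R.carrier (R.res y), ?_,
        add_sub_cancel _ _⟩
      · refine Submodule.mem_span_range_iff_exists_fun _ |>.mpr ⟨fun _ => algebraMap k _ (R.res y), ?_⟩
        rw [Fin.sum_univ_one, Algebra.smul_def, mul_one]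
        exact π.commutes _
      · rw [Submodule.restrictScalars_mem, ← hker, RingHom.mem_ker]
        change R.res (y - _) = 0
        rw [map_sub, AlgHom.commutes]
        exact sub_self _)
    intro y
    obtain ⟨c, hc⟩ := (Submodule.mem_span_range_iff_exists_fun _).mp (htop ▸ Submodule.mem_top : y ∈ _)
    refine ⟨c 0, ?_⟩
    rw [Fin.sum_univ_one, Algebra.smul_def, mul_one] at hc
    exact hc
  refine ⟨d, π, hsurj, fun s hs => ?_⟩
  obtain ⟨a, c, hac, hres⟩ := sub_linear_mem (R := fieldCRing k) (n := d) s
  rw [RingHom.mem_ker] at hs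
  have ha : a = 0 := by
    have h1 : R.res (π s) = psRes (fieldCRing k) d s := AlgHom.congr_fun (algHom_to_k (R.res.comp π)) s
    rw [hs, map_zero] at h1
    exact (hres.symm.trans h1.symm)
  have hlin : ∑ i, algebraMap k R.carrier (c i) * v i ∈ maximalIdeal R.carrier ^ 2 := by
    have h2 : π (s - (psC a + ∑ i, psC (c i) * psX i)) ∈ maximalIdeal R.carrier ^ 2 := by
      rw [← hle, ← Ideal.map_pow]
      exact Ideal.mem_map_of_mem _ hac
    rw [ha, map_zero, zero_add, map_sub, hs, zero_sub, neg_mem_iff, map_sum] at h2
    convert h2 using 1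
    refine Finset.sum_congr rfl fun i _ => ?_
    rw [map_mul, hgX]
    exact congrArg (· * v i) (π.commutes (c i)).symm
  have hc : ∀ i, c i = 0 := fun i => by
    have h3 : ∑ i, residue R.carrier (algebraMap k R.carrier (c i)) • b i = 0 := by
      have h4 : (maximalIdeal R.carrier).toCotangent (∑ i, algebraMap k R.carrier (c i) • x i) = 0 := by
        rw [Ideal.toCotangent_eq_zero]
        rw [AddSubmonoidClass.coe_finsetSum]
        convert hlin using 1; exact Finset.sum_congr rfl fun j _ => rfl
      rw [map_sum] at h4
      rw [← h4]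
      refine Finset.sum_congr rfl fun i _ => ?_
      rw [map_smul, hx, ← IsLocalRing.ResidueField.algebraMap_eq, algebraMap_smul]
    have h5 := (residue_eq_zero_iff _).mp (Fintype.linearIndependent_iff.mp b.linearIndependent _ h3 i)
    rw [← hker, RingHom.mem_ker] at h5
    change R.res (algebraMap k R.carrier (c i)) = 0 at h5
    rwa [AlgHom.commutes] at h5
  simp only [hc, ha, map_zero, zero_mul, Finset.sum_const_zero, add_zero, sub_zero] at hac
  exact hac

theorem spanFinrank_maximalIdeal_eq {P R : Type u} [CommRing P] [IsLocalRing P] [IsNoetherianRing P]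
    [CommRing R] [IsLocalRing R] (π : P →+* R) (hπ : Function.Surjective π)
    (hker : RingHom.ker π ≤ maximalIdeal P ^ 2) :
    (maximalIdeal R).spanFinrank = (maximalIdeal P).spanFinrank := by
  classical
  haveI : IsNoetherianRing R := isNoetherianRing_of_surjective P R π hπ
  haveI : IsLocalHom π := IsLocalHom.of_surjective π hπ
  have hmap : (maximalIdeal P).map π = maximalIdeal R := by
    refine le_antisymm (Ideal.map_le_iff_le_comap.mpr fun e he => (mem_maximalIdeal _).mpr fun hu =>
      (mem_maximalIdeal e).mp he ((isUnit_map_iff π e).mp hu)) fun b hb => ?_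
    obtain ⟨e, rfl⟩ := hπ b
    exact Ideal.mem_map_of_mem _ ((mem_maximalIdeal e).mpr fun hu => (mem_maximalIdeal _).mp hb (hu.map π))
  refine le_antisymm ?_ ?_
  · rw [← hmap]
    have hfg : (maximalIdeal P).FG := IsNoetherian.noetherian _
    conv_lhs => rw [← Submodule.span_generators (maximalIdeal P)]
    rw [show Submodule.span P (maximalIdeal P).generators = Ideal.span (maximalIdeal P).generators from rfl,
      Ideal.map_span, ← (Submodule.FG.generators_ncard hfg)]
    exact (Submodule.spanFinrank_span_le_ncard_of_finite ((Submodule.FG.finite_generators hfg).image _)).trans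
      (Set.ncard_image_le (Submodule.FG.finite_generators hfg))
  · have hfg : (maximalIdeal R).FG := IsNoetherian.noetherian _
    choose f hf using hπ
    let G : Set P := f '' (maximalIdeal R).generators
    have hG : π '' G = (maximalIdeal R).generators := by
      rw [Set.image_image]
      simp only [hf, Set.image_id']
    have hle : Ideal.span G ≤ maximalIdeal P := Ideal.span_le.mpr (by
      rintro _ ⟨y, hy, rfl⟩
      have hy' : y ∈ maximalIdeal R := (Submodule.span_generators (maximalIdeal R)).le (Submodule.subset_span hy)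
      exact (mem_maximalIdeal _).mpr fun hu => (mem_maximalIdeal y).mp hy' (hf y ▸ hu.map π))
    have hm : maximalIdeal P ≤ Ideal.span G ⊔ maximalIdeal P • maximalIdeal P := fun e he => by
      have h1 : π e ∈ (Ideal.span G).map π := by
        rw [Ideal.map_span, hG]
        refine (Submodule.span_generators (maximalIdeal R)).ge ?_
        rw [← hmap]
        exact Ideal.mem_map_of_mem _ he
      obtain ⟨g, hg, hge⟩ := (Ideal.mem_map_iff_of_surjective π (fun y => ⟨f y, hf y⟩)).mp h1
      have h2 : e - g ∈ maximalIdeal P ^ 2 := hker (by rw [RingHom.mem_ker, map_sub, hge, sub_self])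
      rw [pow_two] at h2
      exact Submodule.mem_sup.mpr ⟨g, hg, e - g, by rwa [smul_eq_mul], add_sub_cancel _ _⟩
    have heq : maximalIdeal P = Ideal.span G := le_antisymm
      (Submodule.le_of_le_smul_of_le_jacobson_bot (IsNoetherian.noetherian _) (maximalIdeal_le_jacobson _) hm) hle
    have hfin : G.Finite := (Submodule.FG.finite_generators hfg).image _
    rw [heq, ← (Submodule.FG.generators_ncard hfg)]
    exact (Submodule.spanFinrank_span_le_ncard_of_finite hfin).trans (Set.ncard_image_le (Submodule.FG.finite_generators hfg))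

/-- The estimates attached to a presentation with at most `r` equations. -/
theorem estimates {P R : Type u} [CommRing P] [IsRegularLocalRing P] [CommRing R] [IsLocalRing R]
    [IsNoetherianRing R] (π : P →+* R) (hπ : Function.Surjective π)
    (hker : RingHom.ker π ≤ maximalIdeal P ^ 2) (r : ℕ) (hr : (RingHom.ker π).spanFinrank ≤ r) :
    ringKrullDim R ≤ (Module.finrank (ResidueField R) (CotangentSpace R) : WithBot ℕ∞) ∧
      (Module.finrank (ResidueField R) (CotangentSpace R) : WithBot ℕ∞) ≤
          ringKrullDim R + (r : WithBot ℕ∞) ∧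
      (r = 0 → IsRegularLocalRing R) ∧
      (ringKrullDim R + (r : WithBot ℕ∞) = (Module.finrank (ResidueField R) (CotangentSpace R) : WithBot ℕ∞) →
        ∃ (P' : Type u) (_ : CommRing P') (_ : IsRegularLocalRing P') (π' : P' →+* R) (s : Finset P'),
          Function.Surjective π' ∧ Ideal.span (s : Set P') = RingHom.ker π' ∧
            ringKrullDim P' = ringKrullDim R + (s.card : WithBot ℕ∞)) := by
  classical
  rw [← spanFinrank_maximalIdeal_eq_finrank_cotangentSpace, spanFinrank_maximalIdeal_eq π hπ hker,
    IsRegularLocalRing.spanFinrank_maximalIdeal]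
  let I := RingHom.ker π
  have hI1 : I ≤ maximalIdeal P := hker.trans (Ideal.pow_le_self two_ne_zero)
  have e : ringKrullDim (P ⧸ I) = ringKrullDim R :=
    ringKrullDim_eq_of_ringEquiv (RingHom.quotientKerEquivOfSurjective hπ)
  have hdim : ringKrullDim P ≤ ringKrullDim R + (I.spanFinrank : WithBot ℕ∞) := by
    rw [← e]
    exact ringKrullDim_le_ringKrullDim_quotient_add_spanFinrank I (by rw [IsLocalRing.ringJacobson_eq_maximalIdeal]; exact hI1)
  have hmono : ringKrullDim R + (I.spanFinrank : WithBot ℕ∞) ≤ ringKrullDim R + (r : WithBot ℕ∞) :=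
    add_le_add_right (by exact_mod_cast hr) _
  have hfg : I.FG := IsNoetherian.noetherian I
  refine ⟨(ringKrullDim_le_of_surjective π hπ), hdim.trans hmono, fun h0 => ?_, fun heq => ?_⟩
  · have hbot : I = ⊥ := (Submodule.spanFinrank_eq_zero_iff_eq_bot hfg).mp (Nat.le_zero.mp (h0 ▸ hr))
    exact IsRegularLocalRing.of_ringEquiv
      (RingEquiv.ofBijective π ⟨(RingHom.injective_iff_ker_eq_bot π).mpr hbot, hπ⟩)
  · refine ⟨P, inferInstance, inferInstance, π, (Submodule.FG.finite_generators hfg).toFinset, hπ, ?_, ?_⟩
    · rw [Set.Finite.coe_toFinset]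
      exact I.span_generators
    · rw [← Set.ncard_eq_toFinset_card _ (Submodule.FG.finite_generators hfg), (Submodule.FG.generators_ncard hfg)]
      exact le_antisymm hdim (hmono.trans heq.le)

end Groth.Agent.H24Obs
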