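import Groth.Prelude.Def_ArtFun3
import Groth.Prelude.Def_W4bk4hartshdef114Obs
import Groth.Agent.H24Art.Basic
import Mathlib.RingTheory.Filtration
import Mathlib.RingTheory.Nakayama
import Mathlib.RingTheory.HopkinsLevitzki
import Mathlib.LinearAlgebra.TensorProduct.Basis
import Mathlib.LinearAlgebra.FreeModule.Finite.Basic

/-! An obstruction space bounds the number of equations. -/

set_option autoImplicit false
set_option linter.style.haveILetI false

universe u

open IsLocalRing TensorProduct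

noncomputable section

namespace Groth.Agent.H24Obs

section Core

variable {k P : Type u} [Field k] [CommRing P] [Algebra k P] [IsLocalRing P] (I : Ideal P)

/-- A map back into a quotient which is the identity modulo `I` shows that `I` is already killed. -/
theorem le_of_lift (hI : I ≤ maximalIdeal P ^ 2) (L : Ideal P) (hL : maximalIdeal P * I ≤ L)
    (g : P ⧸ I →ₐ[k] P ⧸ L)
    (hg : ∀ x y : P, g (Ideal.Quotient.mk I x) = Ideal.Quotient.mk L y → y - x ∈ I ⊔ L) : I ≤ L := by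
  have hI1 : I ≤ maximalIdeal P := hI.trans (Ideal.pow_le_self two_ne_zero)
  choose y hy using fun x : P => Ideal.Quotient.mk_surjective (g (Ideal.Quotient.mk I x))
  have hd : ∀ x, y x - x ∈ I ⊔ L := fun x => hg x (y x) (hy x).symm
  have hmul : ∀ a ∈ maximalIdeal P, ∀ z ∈ I ⊔ L, a * z ∈ L := fun a ha z hz => by
    obtain ⟨i, hi, l, hl, rfl⟩ := Submodule.mem_sup.mp hz
    rw [mul_add]
    exact add_mem (hL (Ideal.mul_mem_mul ha hi)) (L.mul_mem_left a hl)
  have hsq : ∀ x ∈ maximalIdeal P ^ 2, y x - x ∈ L := fun x hx => by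
    rw [pow_two] at hx
    refine Submodule.mul_induction_on hx (fun a ha b hb => ?_) fun a b ha hb => ?_
    · have h1 : y (a * b) - y a * y b ∈ L := Ideal.Quotient.eq.mp (by
        rw [map_mul, hy, hy, hy, map_mul, map_mul])
      have h2 : (y a - a) * (y b - b) ∈ L := by
        obtain ⟨i, hi, l, hl, e⟩ := Submodule.mem_sup.mp (hd a)
        rw [← e, add_mul]
        exact add_mem (hmul i (hI1 hi) _ (hd b)) (L.mul_mem_right _ hl)
      have h3 := add_mem (add_mem (add_mem h1 h2) (hmul b hb _ (hd a))) (hmul a ha _ (hd b))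
      convert h3 using 1
      ring
    · have h1 : y (a + b) - (y a + y b) ∈ L := Ideal.Quotient.eq.mp (by
        rw [map_add, hy, hy, hy, map_add, map_add])
      have h3 := add_mem h1 (add_mem ha hb)
      convert h3 using 1
      ring
  intro x hx
  have h0 : y x ∈ L := by
    rw [← Ideal.Quotient.eq_zero_iff_mem, hy, Ideal.Quotient.eq_zero_iff_mem.mpr hx, map_zero]
  have := sub_mem h0 (hsq x (hI hx))
  rwa [sub_sub_cancel] at this

theorem exists_inf_pow_le [IsNoetherianRing P] :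
    ∃ n, 1 ≤ n ∧ I ⊓ maximalIdeal P ^ n ≤ maximalIdeal P * I := by
  obtain ⟨c, hc⟩ := Ideal.exists_pow_inf_eq_pow_smul (maximalIdeal P) (M := P) I
  refine ⟨c + 1, Nat.le_add_left 1 c, ?_⟩
  have h := hc (c + 1) (Nat.le_succ c)
  rw [Nat.add_sub_cancel_left, pow_one, smul_eq_mul, Ideal.mul_top, smul_eq_mul, smul_eq_mul, Ideal.mul_top] at h
  rw [inf_comm, h]
  exact Ideal.mul_mono_right inf_le_right

theorem spanFinrank_le_of_lift [IsNoetherianRing P] (hI : I ≤ maximalIdeal P ^ 2) (r : ℕ)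
    (H : ∀ n, 1 ≤ n → ∃ j : Fin r → P, (∀ i, j i ∈ I) ∧
      ∃ g : P ⧸ I →ₐ[k] P ⧸ (Ideal.span (Set.range j) ⊔ (maximalIdeal P * I ⊔ maximalIdeal P ^ n)),
        ∀ x y : P, g (Ideal.Quotient.mk I x) = Ideal.Quotient.mk _ y →
          y - x ∈ I ⊔ maximalIdeal P ^ n) :
    I.spanFinrank ≤ r := by
  obtain ⟨n, hn1, hn⟩ := exists_inf_pow_le I
  obtain ⟨j, hj, g, hg⟩ := H n hn1
  have hspan : Ideal.span (Set.range j) ≤ I := Ideal.span_le.mpr (by rintro _ ⟨i, rfl⟩; exact hj i)
  have hIL := le_of_lift I hI _ (le_sup_left.trans le_sup_right) g fun x y h =>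
    (sup_le le_sup_left ((le_sup_right.trans le_sup_right).trans le_sup_right) :
      I ⊔ maximalIdeal P ^ n ≤ I ⊔ _) (hg x y h)
  have h2 : I ≤ Ideal.span (Set.range j) ⊔ maximalIdeal P * I := fun x hx => by
    obtain ⟨a, ha, b, hb, rfl⟩ := Submodule.mem_sup.mp (hIL hx)
    obtain ⟨c, hc, d, hd, rfl⟩ := Submodule.mem_sup.mp hb
    refine add_mem (Ideal.mem_sup_left ha) (Ideal.mem_sup_right (add_mem hc (hn ⟨?_, hd⟩)))
    have h3 := sub_mem hx (add_mem (hspan ha) ((Ideal.mul_le_right : maximalIdeal P * I ≤ I) hc))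
    rwa [add_sub_add_left_eq_sub, add_sub_cancel_left] at h3
  have h4 : I ≤ Ideal.span (Set.range j) := Submodule.le_of_le_smul_of_le_jacobson_bot
    (IsNoetherian.noetherian I) (maximalIdeal_le_jacobson _) h2
  rw [le_antisymm h4 hspan]
  exact (Submodule.spanFinrank_span_le_ncard_of_finite (Set.finite_range j)).trans
    ((Finite.card_range_le j).trans_eq (Nat.card_fin r))

end Core

section Tensor

variable {k : Type u} [Field k] {V J : Type u} [AddCommGroup V] [Module k V] [Module.Finite k V]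
  [AddCommGroup J] [Module k J]

/-- The coordinates of an element of `V ⊗ J` in a basis of `V`. -/
theorem exists_coords (z : V ⊗[k] J) :
    ∃ c : Fin (Module.finrank k V) → J, ∀ (N : Type u) [AddCommGroup N] [Module k N] (f : J →ₗ[k] N),
      (∀ i, f (c i) = 0) → LinearMap.lTensor V f z = 0 := by
  classical
  let b := Module.finBasis k V
  let c := TensorProduct.equivFinsuppOfBasisLeft b z
  refine ⟨fun i => c i, fun N _ _ f hf => ?_⟩
  have hz : z = (TensorProduct.equivFinsuppOfBasisLeft b).symm c := (LinearEquiv.symm_apply_apply _ z).symm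
  refine (TensorProduct.equivFinsuppOfBasisLeft b).injective (Finsupp.ext fun i => ?_)
  rw [map_zero, Finsupp.zero_apply, TensorProduct.equivFinsuppOfBasisLeft_apply, ← LinearMap.comp_apply,
    LinearMap.rTensor_comp_lTensor, ← LinearMap.lTensor_comp_rTensor, LinearMap.comp_apply]
  have h1 : (TensorProduct.lid k N) (LinearMap.lTensor k f ((b.coord i).rTensor J z)) =
      f (TensorProduct.lid k J ((b.coord i).rTensor J z)) := by
    induction (b.coord i).rTensor J z using TensorProduct.induction_on with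
    | zero => simp
    | tmul a x => simp
    | add x y hx hy => simp only [map_add, hx, hy]
  rw [h1, ← TensorProduct.equivFinsuppOfBasisLeft_apply]
  exact hf i

end Tensor

section Adapters

variable {k P : Type u} [Field k] [CommRing P] [IsLocalRing P] [IsNoetherianRing P] [Algebra k P]
  (I : Ideal P)

theorem isArtinianRing_quotient {L : Ideal P} {n : ℕ} (hn : maximalIdeal P ^ n ≤ L) (hL : L ≠ ⊤) :
    IsArtinianRing (P ⧸ L) := by
  haveI : Nontrivial (P ⧸ L) := Ideal.Quotient.nontrivial_iff.mpr hL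
  haveI : IsLocalRing (P ⧸ L) := IsLocalRing.of_surjective' _ Ideal.Quotient.mk_surjective
  haveI : IsLocalHom (Ideal.Quotient.mk L) := IsLocalHom.of_surjective _ Ideal.Quotient.mk_surjective
  haveI : IsNoetherianRing (P ⧸ L) := isNoetherianRing_of_surjective P _ _ Ideal.Quotient.mk_surjective
  rw [isArtinianRing_iff_isNilpotent_maximalIdeal]
  refine ⟨n, le_bot_iff.mp ?_⟩
  have h : maximalIdeal (P ⧸ L) ≤ (maximalIdeal P).map (Ideal.Quotient.mk L) := fun b hb => by
    obtain ⟨e, rfl⟩ := Ideal.Quotient.mk_surjective b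
    exact Ideal.mem_map_of_mem _ ((mem_maximalIdeal e).mpr fun hu => (mem_maximalIdeal _).mp hb (hu.map _))
  refine (pow_le_pow_left' h n).trans ?_
  rw [← Ideal.map_pow]
  exact (Ideal.map_mono hn).trans (Ideal.map_quotient_self L).le

theorem spanFinrank_le_of_obsTheory_alg
    (hres : Function.Surjective (algebraMap k (ResidueField P))) (hI : I ≤ maximalIdeal P ^ 2)
    (V : Type u) [AddCommGroup V] [Module k V] [Module.Finite k V]
    (T : W4bk4hartshdef114.ObsTheory k (P ⧸ I) V) : I.spanFinrank ≤ Module.finrank k V := by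
  refine spanFinrank_le_of_lift (k := k) I hI _ fun n hn => ?_
  have hI1 : I ≤ maximalIdeal P := hI.trans (Ideal.pow_le_self two_ne_zero)
  let L := maximalIdeal P * I ⊔ maximalIdeal P ^ n
  have hLm : L ≤ maximalIdeal P := sup_le Ideal.mul_le_left (Ideal.pow_le_self (Nat.one_le_iff_ne_zero.mp hn))
  have hLt : L ≠ ⊤ := fun h => (maximalIdeal.isMaximal P).ne_top (top_le_iff.mp (h ▸ hLm))
  haveI : Nontrivial (P ⧸ L) := Ideal.Quotient.nontrivial_iff.mpr hLt
  haveI : IsLocalRing (P ⧸ L) := IsLocalRing.of_surjective' _ Ideal.Quotient.mk_surjective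
  haveI : IsLocalHom (Ideal.Quotient.mk L) := IsLocalHom.of_surjective _ Ideal.Quotient.mk_surjective
  let J : Ideal (P ⧸ L) := I.map (Ideal.Quotient.mk L)
  have hJ : W4bk4hartshdef114.IsSmallExt k (P ⧸ L) J := by
    refine ⟨inferInstance, isArtinianRing_quotient le_sup_right hLt, fun x => ?_, fun x j hx hj => ?_, fun h => ?_⟩
    · obtain ⟨e, rfl⟩ := Ideal.Quotient.mk_surjective x
      obtain ⟨c, hc⟩ := hres (residue P e)
      refine ⟨c, fun hu => ?_⟩
      rw [← Ideal.Quotient.mk_algebraMap, ← map_sub, isUnit_map_iff] at hu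
      refine (mem_maximalIdeal _).mp ((residue_eq_zero_iff _).mp ?_) hu
      rw [map_sub, ← hc, IsScalarTower.algebraMap_apply k P (ResidueField P)]
      exact sub_self _
    · obtain ⟨e, rfl⟩ := Ideal.Quotient.mk_surjective x
      obtain ⟨i, hi, rfl⟩ := (Ideal.mem_map_iff_of_surjective _ Ideal.Quotient.mk_surjective).mp hj
      rw [← map_mul, Ideal.Quotient.eq_zero_iff_mem]
      exact Ideal.mem_sup_left (Ideal.mul_mem_mul ((mem_maximalIdeal e).mpr fun hu => hx (hu.map _)) hi)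
    · rw [Ideal.eq_top_iff_one, ← map_one (Ideal.Quotient.mk L), Ideal.mem_quotient_iff_mem_sup] at h
      exact (maximalIdeal.isMaximal P).ne_top ((Ideal.eq_top_iff_one _).mpr (sup_le hI1 hLm h))
  let q : P →ₐ[k] (P ⧸ L) ⧸ J := (Ideal.Quotient.mkₐ k J).comp (Ideal.Quotient.mkₐ k L)
  let u : P ⧸ I →ₐ[k] (P ⧸ L) ⧸ J := Ideal.Quotient.liftₐ I q fun a ha =>
    Ideal.Quotient.eq_zero_iff_mem.mpr (Ideal.mem_map_of_mem _ ha)
  obtain ⟨c, hc⟩ := exists_coords (T.obs (P ⧸ L) J u)
  choose j hjI hj using fun i => (Ideal.mem_map_iff_of_surjective _ Ideal.Quotient.mk_surjective).mp (c i).2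
  refine ⟨j, hjI, ?_⟩
  let K : Ideal (P ⧸ L) := Ideal.span (Set.range fun i => (c i : P ⧸ L))
  have hKJ : K ≤ J := Ideal.span_le.mpr (by rintro _ ⟨i, rfl⟩; exact (c i).2)
  have hKm : K ≠ ⊤ := fun h => hJ.2.2.2.2 (top_le_iff.mp (h ▸ hKJ))
  have h0 : LinearMap.lTensor V (W4bk4hartshdef114.idealToQuot k J K) (T.obs (P ⧸ L) J u) = 0 :=
    hc _ _ fun i => Subtype.ext (Ideal.Quotient.eq_zero_iff_mem.mpr (Ideal.subset_span ⟨i, rfl⟩))
  rw [← T.obs_quot (P ⧸ L) J K hJ hKJ u] at h0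
  haveI : Nontrivial ((P ⧸ L) ⧸ K) := Ideal.Quotient.nontrivial_iff.mpr hKm
  haveI : IsLocalRing ((P ⧸ L) ⧸ K) := IsLocalRing.of_surjective' _ Ideal.Quotient.mk_surjective
  haveI : IsLocalHom (Ideal.Quotient.mk K) := IsLocalHom.of_surjective _ Ideal.Quotient.mk_surjective
  haveI : IsArtinianRing (P ⧸ L) := hJ.2.1
  have hsm : W4bk4hartshdef114.IsSmallExt k ((P ⧸ L) ⧸ K) (J.map (Ideal.Quotient.mkₐ k K)) := by
    refine ⟨inferInstance, Function.Surjective.isArtinianRing (f := Ideal.Quotient.mk K) Ideal.Quotient.mk_surjective,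
      fun x => ?_, fun x w hx hw => ?_, fun h => ?_⟩
    · obtain ⟨e, rfl⟩ := Ideal.Quotient.mk_surjective x
      obtain ⟨a, ha⟩ := hJ.2.2.1 e
      refine ⟨a, fun hu => ha ?_⟩
      rwa [← Ideal.Quotient.mk_algebraMap, ← map_sub, isUnit_map_iff] at hu
    · obtain ⟨e, rfl⟩ := Ideal.Quotient.mk_surjective x
      obtain ⟨i, hi, rfl⟩ := (Ideal.mem_map_iff_of_surjective _ Ideal.Quotient.mk_surjective).mp hw
      change Ideal.Quotient.mk K e * Ideal.Quotient.mk K i = 0
      rw [← map_mul, hJ.2.2.2.1 e i (fun hu => hx (hu.map _)) hi, map_zero]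
    · refine hJ.2.2.2.2 ((Ideal.eq_top_iff_one _).mpr ?_)
      have h1 : Ideal.Quotient.mk K 1 ∈ J.map (Ideal.Quotient.mk K) := by
        rw [map_one]
        exact (Ideal.eq_top_iff_one _).mp h
      exact (Ideal.mem_quotient_iff_mem hKJ).mp h1
  obtain ⟨u', hu'⟩ := (T.obs_eq_zero_iff _ _ hsm _).mp h0
  have hLL : L ≤ Ideal.span (Set.range j) ⊔ L := le_sup_right
  let h : (P ⧸ L) ⧸ K →ₐ[k] P ⧸ (Ideal.span (Set.range j) ⊔ L) :=
    Ideal.Quotient.liftₐ K (Ideal.Quotient.factorₐ k hLL) fun a ha => by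
      have hle : K ≤ RingHom.ker (Ideal.Quotient.factorₐ k hLL) := Ideal.span_le.mpr (by
        rintro _ ⟨i, rfl⟩
        change Ideal.Quotient.factorₐ k hLL (c i : P ⧸ L) = 0
        rw [← hj i]
        exact Ideal.Quotient.eq_zero_iff_mem.mpr (Ideal.mem_sup_left (Ideal.subset_span ⟨i, rfl⟩)))
      exact hle ha
  refine ⟨h.comp u', fun x y hxy => ?_⟩
  obtain ⟨e, he⟩ := Ideal.Quotient.mk_surjective (u' (Ideal.Quotient.mk I x))
  obtain ⟨p, rfl⟩ := Ideal.Quotient.mk_surjective e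
  have h1 := AlgHom.congr_fun hu' (Ideal.Quotient.mk I x)
  rw [AlgHom.comp_apply, ← he] at h1
  have h1' : Ideal.Quotient.mk J (Ideal.Quotient.mk L p) = Ideal.Quotient.mk J (Ideal.Quotient.mk L x) :=
    (DoubleQuot.quotQuotEquivQuotOfLEₐ k hKJ).symm.injective h1
  rw [Ideal.Quotient.eq, ← map_sub, Ideal.mem_quotient_iff_mem_sup] at h1'
  have h2 : Ideal.Quotient.mk (Ideal.span (Set.range j) ⊔ L) y = Ideal.Quotient.mk _ p := by
    rw [← hxy, AlgHom.comp_apply, ← he]; rfl
  have h3 : Ideal.span (Set.range j) ⊔ L ≤ I ⊔ maximalIdeal P ^ n :=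
    sup_le ((Ideal.span_le.mpr (by rintro _ ⟨i, rfl⟩; exact hjI i)).trans le_sup_left)
      (sup_le (Ideal.mul_le_right.trans le_sup_left) le_sup_right)
  have h4 := add_mem (h3 (Ideal.Quotient.eq.mp h2)) ((sup_le le_sup_left (le_sup_right.trans h3)) h1')
  rwa [sub_add_sub_cancel] at h4

open CategoryTheory ArtFun ArtFun.Art in
theorem spanFinrank_le_of_obsTheory_fun {R : Type u} [CommRing R] [Algebra k R] (resR : R →ₐ[k] k)
    (π : P →ₐ[k] R) (hπ : Function.Surjective π) (hI : RingHom.ker π ≤ maximalIdeal P ^ 2)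
    (V : Type u) [AddCommGroup V] [Module k V] [Module.Finite k V]
    (T : ArtFun.ObsTheory (ArtFun.hR R resR) V) : (RingHom.ker π).spanFinrank ≤ Module.finrank k V := by
  refine spanFinrank_le_of_lift (k := k) _ hI _ fun n hn => ?_
  let ρ := resR.comp π
  have hρs : Function.Surjective ρ := fun c => ⟨algebraMap k P c, ρ.commutes c⟩
  have hker : RingHom.ker (ρ : P →+* k) = maximalIdeal P :=
    IsLocalRing.eq_maximalIdeal (RingHom.ker_isMaximal_of_surjective (ρ : P →+* k) hρs)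
  let I := RingHom.ker π
  have hI1 : I ≤ maximalIdeal P := hI.trans (Ideal.pow_le_self two_ne_zero)
  let L := maximalIdeal P * I ⊔ maximalIdeal P ^ n
  have hLm : L ≤ maximalIdeal P := sup_le Ideal.mul_le_left (Ideal.pow_le_self (Nat.one_le_iff_ne_zero.mp hn))
  have hLt : L ≠ ⊤ := fun h => (maximalIdeal.isMaximal P).ne_top (top_le_iff.mp (h ▸ hLm))
  haveI : Nontrivial (P ⧸ L) := Ideal.Quotient.nontrivial_iff.mpr hLt
  haveI : IsLocalRing (P ⧸ L) := IsLocalRing.of_surjective' _ Ideal.Quotient.mk_surjective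
  haveI : IsArtinianRing (P ⧸ L) := isArtinianRing_quotient le_sup_right hLt
  let resC : P ⧸ L →ₐ[k] k := Ideal.Quotient.liftₐ L ρ fun a ha => by
    have := hLm ha
    rw [← hker] at this
    exact this
  let C' : Art k k := Art.of (P ⧸ L) resC fun c => ⟨algebraMap k _ c, resC.commutes c⟩
  let J : Ideal C' := Ideal.map (Ideal.Quotient.mk L) I
  have hJm : J ≤ maximalIdeal C' := fun a ha => by
    obtain ⟨i, hi, rfl⟩ := (Ideal.mem_map_iff_of_surjective _ Ideal.Quotient.mk_surjective).mp ha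
    rw [C'.mem_maximalIdeal_iff]
    have := hI1 hi
    rw [← hker] at this
    exact this
  let p := quotMk C' J hJm
  have hkp : RingHom.ker p.toAlgHom = J := Ideal.mk_ker
  have hmJ : ∀ a ∈ maximalIdeal C', ∀ b ∈ J, a * b = 0 := fun a ha b hb => by
    obtain ⟨e, rfl⟩ := Ideal.Quotient.mk_surjective a
    obtain ⟨i, hi, rfl⟩ := (Ideal.mem_map_iff_of_surjective _ Ideal.Quotient.mk_surjective).mp hb
    rw [C'.mem_maximalIdeal_iff] at ha
    refine ((map_mul (Ideal.Quotient.mk L) e i).symm.trans (Ideal.Quotient.eq_zero_iff_mem.mpr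
      (Ideal.mem_sup_left (Ideal.mul_mem_mul ?_ hi))) : _)
    rw [← hker]
    exact ha
  have hp : IsSemismallExt p := ⟨quotMk_surjective _ _ _, by
    rw [eq_bot_iff, Ideal.mul_le]
    intro a ha b hb
    exact (Ideal.mem_bot).mpr (hmJ a ha b (by rw [← hkp]; exact hb))⟩
  let q : P →ₐ[k] quot C' J hJm := p.toAlgHom.comp (Ideal.Quotient.mkₐ k L)
  let u0 : R →ₐ[k] quot C' J hJm := π.liftOfSurjective hπ q fun a ha =>
    Ideal.Quotient.eq_zero_iff_mem.mpr (Ideal.mem_map_of_mem _ ha)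
  have hu0 : ∀ x, u0 (π x) = q x := fun x => AlgHom.liftOfSurjective_apply _ _ _ _ _
  let u : HomSet R resR (quot C' J hJm) := ⟨u0, AlgHom.ext fun r => by
    obtain ⟨x, rfl⟩ := hπ r
    rw [AlgHom.comp_apply, hu0]; rfl⟩
  obtain ⟨c, hc⟩ := exists_coords (T.obs p hp u)
  choose j hjI hj using fun i => (Ideal.mem_map_iff_of_surjective _ Ideal.Quotient.mk_surjective).mp
    (show (c i : C') ∈ J from hkp.le (c i).2)
  refine ⟨j, hjI, ?_⟩
  let K : Ideal C' := Ideal.span (Set.range fun i => (c i : C'))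
  have hKJ : K ≤ RingHom.ker p.toAlgHom := Ideal.span_le.mpr (by rintro _ ⟨i, rfl⟩; exact (c i).2)
  have hKm : K ≤ maximalIdeal C' := hKJ.trans (hkp.le.trans hJm)
  have hq : IsSemismallExt (quotFactor hKm p hKJ) := by
    refine ⟨fun b => ?_, ?_⟩
    · obtain ⟨a, rfl⟩ := quotMk_surjective C' J hJm b
      exact ⟨quotMk C' K hKm a, rfl⟩
    rw [eq_bot_iff, Ideal.mul_le]
    intro a ha b hb
    obtain ⟨a, rfl⟩ := quotMk_surjective C' K hKm a
    obtain ⟨b, rfl⟩ := quotMk_surjective C' K hKm b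
    rw [(quot C' K hKm).mem_maximalIdeal_iff, res_app, ← C'.mem_maximalIdeal_iff] at ha
    have hb' : p b = 0 := hb
    rw [Ideal.mem_bot, ← map_mul, hmJ a ha b (hkp.le (RingHom.mem_ker.mpr hb')), map_zero]
  have h0 : LinearMap.lTensor V ((kerToQuot hKm p hKJ).restrictScalars k) (T.obs p hp u) = 0 :=
    hc _ _ fun i => Subtype.ext (Ideal.Quotient.eq_zero_iff_mem.mpr (Ideal.subset_span ⟨i, rfl⟩))
  rw [← T.obs_quot p hp K hKm hKJ hq u] at h0
  obtain ⟨u', hu'⟩ := (T.obs_eq_zero_iff _ _ _).mp h0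
  have hu'' : ∀ x, quotFactor hKm p hKJ (u'.1 (π x)) = q x := fun x => by
    have := congrArg (fun w : HomSet R resR (quot C' J hJm) => w.1 (π x)) hu'
    exact this.trans (hu0 x)
  have hLL : L ≤ Ideal.span (Set.range j) ⊔ L := le_sup_right
  let h : quot C' K hKm →ₐ[k] P ⧸ (Ideal.span (Set.range j) ⊔ L) :=
    Ideal.Quotient.liftₐ K (Ideal.Quotient.factorₐ k hLL) fun a ha => by
      have hle : K ≤ RingHom.ker (Ideal.Quotient.factorₐ k hLL) := Ideal.span_le.mpr (by
        rintro _ ⟨i, rfl⟩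
        change Ideal.Quotient.factorₐ k hLL (c i : C') = 0
        rw [← hj i]
        exact Ideal.Quotient.eq_zero_iff_mem.mpr (Ideal.mem_sup_left (Ideal.subset_span ⟨i, rfl⟩)))
      exact hle ha
  refine ⟨(h.comp u'.1).comp (Ideal.Quotient.liftₐ I π fun a ha => ha), fun x y hxy => ?_⟩
  obtain ⟨e, he⟩ := quotMk_surjective C' K hKm (u'.1 (π x))
  obtain ⟨z, rfl⟩ := Ideal.Quotient.mk_surjective e
  have h1 := hu'' x
  rw [← he] at h1
  have h1' : Ideal.Quotient.mk J (Ideal.Quotient.mk L z) = Ideal.Quotient.mk J (Ideal.Quotient.mk L x) := h1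
  replace h1' : z - x ∈ I ⊔ L := by
    rw [← Ideal.mem_quotient_iff_mem_sup, map_sub]
    exact Ideal.Quotient.eq.mp h1'
  have h2 : Ideal.Quotient.mk (Ideal.span (Set.range j) ⊔ L) y = Ideal.Quotient.mk _ z := by
    rw [← hxy]
    change h (u'.1 (π x)) = _
    rw [← he]; rfl
  have h3 : Ideal.span (Set.range j) ⊔ L ≤ I ⊔ maximalIdeal P ^ n :=
    sup_le ((Ideal.span_le.mpr (by rintro _ ⟨i, rfl⟩; exact hjI i)).trans le_sup_left)
      (sup_le (Ideal.mul_le_right.trans le_sup_left) le_sup_right)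
  have h4 := add_mem (h3 (Ideal.Quotient.eq.mp h2)) ((sup_le le_sup_left (le_sup_right.trans h3)) h1')
  rwa [sub_add_sub_cancel] at h4

end Adapters

end Groth.Agent.H24Obs
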