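import Groth.Agent.H24Obs.Lifting
import Groth.Agent.H24Cot.NonTrivial
import Mathlib.RingTheory.Jacobson.Ring
import Mathlib.FieldTheory.IsAlgClosed.Basic
import Mathlib.RingTheory.MvPolynomial.Homogeneous
import Mathlib.RingTheory.Localization.AtPrime.Basic

/-! Regularity at a rational point against lifting of curvilinear jets. -/

set_option autoImplicit false
set_option linter.style.haveILetI false

universe u

open Polynomial

noncomputable section

namespace Groth.Agent.H24Obs.Jets

variable {k : Type u} [Field k]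

/-- `k[X]/(X^l)`. -/
abbrev Jet (k : Type u) [Field k] (l : ℕ) : Type u := k[X] ⧸ Ideal.span {(X : k[X]) ^ l}

/-- Reduction `k[X]/(X^(l+1)) → k[X]/(X^l)`. -/
def red (k : Type u) [Field k] (l : ℕ) : Jet k (l + 1) →ₐ[k] Jet k l :=
  Ideal.Quotient.factorₐ k
    (Ideal.span_singleton_le_span_singleton.mpr (pow_dvd_pow (X : k[X]) (Nat.le_succ l)))

/-- The class of the variable. -/
def T (k : Type u) [Field k] (l : ℕ) : Jet k l := Ideal.Quotient.mk _ X

theorem T_pow (l : ℕ) : T k l ^ l = 0 := by
  rw [T, ← map_pow]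
  exact Ideal.Quotient.eq_zero_iff_mem.mpr (Ideal.mem_span_singleton_self _)

theorem red_T (l : ℕ) : red k l (T k (l + 1)) = T k l := rfl

theorem smul_eq {l : ℕ} (e : k) (t : Jet k l) : e • t = algebraMap k _ e * t := Algebra.smul_def e t

theorem smul_T_pow_eq_zero {l : ℕ} {c : k} (h : c • T k (l + 1) ^ l = 0) : c = 0 := by
  rw [T, ← map_pow] at h
  have h' : (C c * X ^ l : k[X]) ∈ Ideal.span {(X : k[X]) ^ (l + 1)} := by
    rw [← Ideal.Quotient.eq_zero_iff_mem, ← smul_eq_C_mul]
    exact h
  rw [Ideal.mem_span_singleton, X_pow_dvd_iff] at h'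
  simpa [coeff_C_mul] using h' l (Nat.lt_succ_self l)

theorem isLocalRing_jet {l : ℕ} (hl : 1 ≤ l) : IsLocalRing (Jet k l) := by
  haveI : Nontrivial (Jet k l) := Ideal.Quotient.nontrivial_iff.mpr fun h => by
    have := (Ideal.span_singleton_eq_top).mp h
    exact not_isUnit_X (isUnit_pow_iff (by omega) |>.mp this)
  refine IsLocalRing.of_isUnit_or_isUnit_one_sub_self fun a => ?_
  obtain ⟨p, rfl⟩ := Ideal.Quotient.mk_surjective a
  have hn : ∀ q : k[X], q.coeff 0 ≠ 0 → IsUnit (Ideal.Quotient.mk (Ideal.span {(X : k[X]) ^ l}) q) := fun q hq => by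
    rw [← q.X_mul_divX_add, map_add]
    refine IsNilpotent.isUnit_add_right_of_commute ⟨l, ?_⟩ (((isUnit_C).mpr (Ne.isUnit hq)).map _) (Commute.all _ _)
    rw [map_mul, mul_pow]
    change T k l ^ l * _ = 0
    rw [T_pow, zero_mul]
  by_cases h : p.coeff 0 = 0
  · right
    rw [← map_one (Ideal.Quotient.mk _), ← map_sub]
    exact hn _ (by simp [h])
  · exact Or.inl (hn _ h)

theorem exists_T_mul {l : ℕ} (hl : 1 ≤ l) (a : Jet k l) (ha : ¬ IsUnit a) : ∃ b, a = T k l * b := by
  obtain ⟨p, rfl⟩ := Ideal.Quotient.mk_surjective a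
  have h0 : p.coeff 0 = 0 := by
    by_contra h
    refine ha ?_
    haveI := isLocalRing_jet (k := k) hl
    by_contra hu
    have h1 := (IsLocalRing.mem_maximalIdeal _).mpr hu
    have hTm : Ideal.Quotient.mk (Ideal.span {(X : k[X]) ^ l}) (X * p.divX) ∈ IsLocalRing.maximalIdeal (Jet k l) :=
      (IsLocalRing.mem_maximalIdeal _).mpr fun hu' => by
        rw [map_mul] at hu'
        have := (isUnit_of_mul_isUnit_left hu').pow l
        change IsUnit (T k l ^ l) at this
        rw [T_pow] at this
        exact not_isUnit_zero this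
    rw [← p.X_mul_divX_add, map_add] at h1
    have h2 := sub_mem h1 hTm
    rw [add_sub_cancel_left] at h2
    exact (IsLocalRing.mem_maximalIdeal _).mp h2 (((isUnit_C).mpr (Ne.isUnit h)).map _)
  refine ⟨Ideal.Quotient.mk _ p.divX, ?_⟩
  conv_lhs => rw [← p.X_mul_divX_add, h0, map_zero, add_zero, map_mul]
  rfl

theorem surjective_red (l : ℕ) : Function.Surjective (red k l) :=
  Ideal.Quotient.factor_surjective
    (Ideal.span_singleton_le_span_singleton.mpr (pow_dvd_pow (X : k[X]) (Nat.le_succ l)))

theorem ker_red_sq {l : ℕ} (hl : 1 ≤ l) : RingHom.ker (red k l) ^ 2 = ⊥ := by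
  have hle : RingHom.ker (red k l) ≤ Ideal.span {T k (l + 1) ^ l} := fun a ha => by
    obtain ⟨p, rfl⟩ := Ideal.Quotient.mk_surjective a
    have hp : p ∈ Ideal.span {(X : k[X]) ^ l} := Ideal.Quotient.eq_zero_iff_mem.mp (RingHom.mem_ker.mp ha)
    obtain ⟨c, rfl⟩ := Ideal.mem_span_singleton'.mp hp
    rw [map_mul, map_pow]
    exact Ideal.mul_mem_left _ _ (Ideal.mem_span_singleton_self _)
  rw [eq_bot_iff]
  refine (Ideal.pow_right_mono hle 2).trans ?_
  rw [Ideal.span_singleton_pow, ← pow_mul, Ideal.span_le, Set.singleton_subset_iff]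
  rw [pow_eq_zero_of_le (show l + 1 ≤ l * 2 by omega) (T_pow (l + 1))]
  exact zero_mem _

section Local

open IsLocalRing MvPolynomial

variable {A : Type u} [CommRing A] [IsLocalRing A] [Algebra k A] [Algebra.EssFiniteType k A]

theorem isRegularLocalRing_of_jets [Infinite k]
    (hres : ∀ a : A, ∃ c : k, a - algebraMap k A c ∈ maximalIdeal A)
    (H : ∀ l, 1 ≤ l → ∀ φ : A →ₐ[k] Jet k l, ∃ ψ : A →ₐ[k] Jet k (l + 1), (red k l).comp ψ = φ) :
    IsRegularLocalRing A := by
  classical
  obtain ⟨P, _, _, _, π, hπ, hker⟩ := exists_regular_presentation k A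
  haveI : IsLocalHom (π : P →+* A) := IsLocalHom.of_surjective _ hπ
  obtain ⟨δ, hδ⟩ := Groth.Agent.H24Cot.exists_residue_derivation hres
  haveI : IsNoetherianRing A := isNoetherianRing_of_surjective P A π.toRingHom hπ
  let b := Module.finBasis (ResidueField A) (CotangentSpace A)
  let d := Module.finrank (ResidueField A) (CotangentSpace A)
  choose y hy using fun i : Fin d => (maximalIdeal A).toCotangent_surjective (b i)
  choose Y hY using fun i => hπ (y i).1
  have hYm : ∀ i, Y i ∈ maximalIdeal P := fun i => (mem_maximalIdeal _).mpr fun hu =>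
    (mem_maximalIdeal _).mp (y i).2 (hY i ▸ hu.map π)
  have hspanA : Ideal.span (Set.range fun i => (y i).1) = maximalIdeal A := by
    have h1 : Submodule.span (ResidueField A) ((maximalIdeal A).toCotangent '' Set.range y) = ⊤ := by
      rw [← Set.range_comp, show (maximalIdeal A).toCotangent ∘ y = b from funext hy, b.span_eq]
    have h3 := congrArg (Submodule.map (maximalIdeal A).subtype) ((CotangentSpace.span_image_eq_top_iff (R := A)).mp h1)
    rw [Submodule.map_top, Submodule.range_subtype, Submodule.map_span, ← Set.range_comp] at h3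
    exact h3
  have hspan : Ideal.span (Set.range Y) = maximalIdeal P := by
    refine le_antisymm (Ideal.span_le.mpr (by rintro _ ⟨i, rfl⟩; exact hYm i)) ?_
    refine Submodule.le_of_le_smul_of_le_jacobson_bot (I := maximalIdeal P) (IsNoetherian.noetherian _)
      (maximalIdeal_le_jacobson _) fun p hp => ?_
    have hpi : π p ∈ Ideal.span (Set.range fun i => (y i).1) := by
      rw [hspanA]
      exact (mem_maximalIdeal _).mpr fun hu => (mem_maximalIdeal p).mp hp ((isUnit_map_iff (π : P →+* A) p).mp hu)
    obtain ⟨g, hg⟩ := Ideal.mem_span_range_iff_exists_fun.mp hpi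
    choose g' hg' using fun i => hπ (g i)
    refine Submodule.mem_sup.mpr ⟨∑ i, g' i * Y i, Ideal.mem_span_range_iff_exists_fun.mpr ⟨g', rfl⟩,
      p - ∑ i, g' i * Y i, ?_, add_sub_cancel _ _⟩
    rw [smul_eq_mul, ← pow_two]
    refine hker ?_
    rw [RingHom.mem_ker, map_sub, map_sum]
    simp only [map_mul, hg', hY]
    rw [hg, sub_self]
  have hresP : ∀ p : P, ∃ c : k, p - algebraMap k P c ∈ maximalIdeal P := fun p => by
    obtain ⟨c, hc⟩ := hres (π p)
    refine ⟨c, (mem_maximalIdeal _).mpr fun hu => (mem_maximalIdeal _).mp hc ?_⟩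
    have := hu.map π
    rwa [map_sub, AlgHom.commutes] at this
  -- every element of `m^e` is a form of degree `e` in `Y` modulo `m^(e+1)`
  have hform : ∀ e, ∀ f ∈ maximalIdeal P ^ e, ∃ F : MvPolynomial (Fin d) k, F.IsHomogeneous e ∧
      f - MvPolynomial.aeval Y F ∈ maximalIdeal P ^ (e + 1) := by
    intro e
    induction e with
    | zero =>
      intro f _
      obtain ⟨c, hc⟩ := hresP f
      exact ⟨MvPolynomial.C c, isHomogeneous_C _ _, by rwa [MvPolynomial.aeval_C, zero_add, pow_one]⟩
    | succ e ih =>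
      intro f hf
      rw [pow_succ] at hf
      refine Submodule.mul_induction_on hf (fun a ha p hp => ?_) ?_
      · obtain ⟨F, hF, hFa⟩ := ih a ha
        obtain ⟨g, hg⟩ := Ideal.mem_span_range_iff_exists_fun.mp (hspan.symm.le hp)
        choose c hc using fun i => hresP (g i)
        refine ⟨∑ i, F * (MvPolynomial.C (c i) * MvPolynomial.X i), IsHomogeneous.sum _ _ _ fun i _ =>
          hF.mul (by simpa using (isHomogeneous_C (Fin d) (c i)).mul (isHomogeneous_X k i)), ?_⟩
        rw [← hg, Finset.mul_sum, map_sum, ← Finset.sum_sub_distrib]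
        refine sum_mem fun i _ => ?_
        simp only [map_mul, MvPolynomial.aeval_C, MvPolynomial.aeval_X]
        have h1 : (a - MvPolynomial.aeval Y F) * (g i * Y i) ∈ maximalIdeal P ^ (e + 1 + 1) := by
          rw [pow_succ]; exact Ideal.mul_mem_mul hFa (Ideal.mul_mem_left _ _ (hYm i))
        have h2 : MvPolynomial.aeval Y F * (g i - algebraMap k P (c i)) * Y i ∈ maximalIdeal P ^ (e + 1 + 1) := by
          rw [pow_succ, pow_succ]
          refine Ideal.mul_mem_mul (Ideal.mul_mem_mul ?_ (hc i)) (hYm i)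
          have := sub_mem ha (Ideal.pow_le_pow_right (Nat.le_succ e) hFa)
          rwa [sub_sub_cancel] at this
        convert add_mem h1 h2 using 1
        ring
      · rintro x z ⟨F, hF, hx⟩ ⟨G, hG, hz⟩
        exact ⟨F + G, hF.add hG, by rw [map_add, add_sub_add_comm]; exact add_mem hx hz⟩
  suffices hbot : RingHom.ker π = ⊥ from
    IsRegularLocalRing.of_ringEquiv
      (RingEquiv.ofBijective (π : P →+* A) ⟨(RingHom.injective_iff_ker_eq_bot _).mpr hbot, hπ⟩)
  rw [eq_bot_iff]
  suffices hall : ∀ e, RingHom.ker π ≤ maximalIdeal P ^ e by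
    refine (le_iInf hall).trans ?_
    rw [Ideal.iInf_pow_eq_bot_of_isLocalRing _ (maximalIdeal.isMaximal P).ne_top]
  intro e
  induction e with
  | zero => rw [pow_zero, Ideal.one_eq_top]; exact le_top
  | succ e ih =>
    intro f hf
    by_cases he : e = 0
    · subst he
      rw [zero_add, pow_one]
      exact le_maximalIdeal (RingHom.ker_ne_top π) hf
    obtain ⟨F, hF, hFf⟩ := hform e f (ih hf)
    suffices hF0 : F = 0 by rwa [hF0, map_zero, sub_zero] at hFf
    refine MvPolynomial.funext fun v => ?_
    rw [map_zero]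
    -- a jet with tangent vector `v`

    obtain ⟨c, hcA⟩ : ∃ c : A → k, ∀ a, a - algebraMap k A (c a) ∈ maximalIdeal A := ⟨_, fun a => (hres a).choose_spec⟩
    have hsk : Function.Bijective (algebraMap k (ResidueField A)) := by
      refine ⟨(algebraMap k _).injective, fun z => ?_⟩
      obtain ⟨a, rfl⟩ := residue_surjective z
      refine ⟨c a, ?_⟩
      rw [IsScalarTower.algebraMap_apply k A (ResidueField A), IsLocalRing.ResidueField.algebraMap_eq]
      exact (Ideal.Quotient.eq.mpr (hcA a)).symm
    let ek : k ≃+* ResidueField A := RingEquiv.ofBijective _ hsk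
    have huniq : ∀ a e', a - algebraMap k A e' ∈ maximalIdeal A → c a = e' := fun a e' he' => by
      by_contra hne
      have h1 := sub_mem he' (hcA a)
      rw [sub_sub_sub_cancel_left, ← map_sub] at h1
      exact (mem_maximalIdeal _).mp h1 ((Ne.isUnit (sub_ne_zero.mpr hne)).map _)
    let L : CotangentSpace A → k := fun w => ∑ i, ek.symm (b.repr w i) * v i
    have hL : ∀ (a : A) (w : CotangentSpace A), L (a • w) = c a * L w := fun a w => by
      have h1 : a • w = residue A a • w := by rw [← IsLocalRing.ResidueField.algebraMap_eq, algebraMap_smul]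
      have h2 : ek.symm (residue A a) = c a := by
        rw [RingEquiv.symm_apply_eq]
        change residue A a = algebraMap k (ResidueField A) (c a)
        rw [IsScalarTower.algebraMap_apply k A (ResidueField A), IsLocalRing.ResidueField.algebraMap_eq]
        exact Ideal.Quotient.eq.mpr (hcA a)
      simp only [L, h1, map_smul, Finsupp.smul_apply, smul_eq_mul, map_mul, h2, Finset.mul_sum, mul_assoc]
    have hLadd : ∀ w w', L (w + w') = L w + L w' := fun w w' => by
      simp only [L, map_add, Finsupp.add_apply, add_mul, Finset.sum_add_distrib]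
    have hL0 : L 0 = 0 := by simp [L]
    let φ : A →ₐ[k] Jet k 2 :=
      { toFun := fun a => algebraMap k _ (c a) + L (δ a) • T k 2
        map_one' := by rw [δ.map_one_eq_zero, hL0, zero_smul, add_zero, huniq 1 1 (by simp), map_one]
        map_mul' := fun x z => by
          have hmul : c (x * z) = c x * c z := huniq _ _ (by
            rw [map_mul, show x * z - algebraMap k A (c x) * algebraMap k A (c z) =
              x * (z - algebraMap k A (c z)) + algebraMap k A (c z) * (x - algebraMap k A (c x)) by ring]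
            exact add_mem (Ideal.mul_mem_left _ _ (hcA z)) (Ideal.mul_mem_left _ _ (hcA x)))
          rw [δ.leibniz, hLadd, hL, hL, hmul, map_mul]
          simp only [smul_eq, map_add, map_mul]
          linear_combination (-(algebraMap k (Jet k 2) (L (δ x))) * algebraMap k (Jet k 2) (L (δ z))) * T_pow (k := k) 2
        map_zero' := by rw [map_zero, hL0, zero_smul, add_zero, huniq 0 0 (by simp), map_zero]
        map_add' := fun x z => by
          rw [map_add, hLadd, huniq (x + z) (c x + c z) (by rw [map_add, add_sub_add_comm]; exact add_mem (hcA x) (hcA z)),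
            map_add, add_smul]
          ring
        commutes' := fun e' => by rw [δ.map_algebraMap, hL0, zero_smul, add_zero, huniq _ e' (by simp)] }
    have hφy : ∀ i, φ (y i).1 = v i • T k 2 := fun i => by
      have hc0 : c (y i).1 = 0 := huniq _ 0 (by simpa using (y i).2)
      change algebraMap k _ (c (y i).1) + L (δ (y i).1) • T k 2 = _
      rw [hc0, map_zero, zero_add, hδ, hy]
      congr 1
      simp only [L, b.repr_self]
      rw [Finset.sum_eq_single i (fun j _ hj => by rw [Finsupp.single_eq_of_ne hj, map_zero, zero_mul])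
        (fun h => absurd (Finset.mem_univ i) h), Finsupp.single_eq_same, map_one, one_mul]
    -- extend
    have hext : ∀ j, ∃ ψ : A →ₐ[k] Jet k (j + 2), ∀ i, ∃ r : Jet k (j + 2),
        ψ (y i).1 = v i • T k (j + 2) + T k (j + 2) ^ 2 * r := by
      intro j
      induction j with
      | zero => exact ⟨φ, fun i => ⟨0, by rw [mul_zero, add_zero]; exact hφy i⟩⟩
      | succ j ihj =>
        obtain ⟨ψ, hψ⟩ := ihj
        obtain ⟨ψ', hψ'⟩ := H (j + 2) (by omega) ψ
        refine ⟨ψ', fun i => ?_⟩
        obtain ⟨r, hr⟩ := hψ i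
        obtain ⟨r', rfl⟩ := surjective_red (j + 2) r
        have h0 : red k (j + 2) (ψ' (y i).1 - (v i • T k (j + 2 + 1) + T k (j + 2 + 1) ^ 2 * r')) = 0 := by
          rw [map_sub, map_add, map_smul, map_mul, map_pow, red_T, sub_eq_zero, ← hr]
          exact AlgHom.congr_fun hψ' _
        obtain ⟨p, hp⟩ := Ideal.Quotient.mk_surjective (ψ' (y i).1 - (v i • T k (j + 2 + 1) + T k (j + 2 + 1) ^ 2 * r'))
        rw [← hp] at h0
        obtain ⟨q, hq⟩ := Ideal.mem_span_singleton'.mp (Ideal.Quotient.eq_zero_iff_mem.mp h0)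
        refine ⟨r' + T k (j + 2 + 1) ^ j * Ideal.Quotient.mk _ q, ?_⟩
        have h1 := eq_add_of_sub_eq hp.symm
        rw [h1, ← hq, map_mul, map_pow]
        change _ * T k (j + 2 + 1) ^ (j + 2) + _ = _
        ring
    obtain ⟨n, rfl⟩ := Nat.exists_eq_succ_of_ne_zero he
    obtain ⟨ψ, hψ⟩ := hext n
    haveI := isLocalRing_jet (k := k) (show 1 ≤ n + 2 by omega)
    let χ : P →ₐ[k] Jet k (n + 2) := ψ.comp π
    have hχY : ∀ i, ∃ r, χ (Y i) = T k (n + 2) * (algebraMap k _ (v i) + T k (n + 2) * r) := fun i => by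
      obtain ⟨r, hr⟩ := hψ i
      refine ⟨r, ?_⟩
      change ψ (π (Y i)) = _
      rw [hY, hr]
      simp only [smul_eq]
      ring
    choose r hr using hχY
    have hχm : (maximalIdeal P).map χ ≤ Ideal.span {T k (n + 2)} := by
      rw [← hspan, Ideal.map_span, Ideal.span_le]
      rintro _ ⟨_, ⟨i, rfl⟩, rfl⟩
      exact Ideal.mem_span_singleton'.mpr ⟨_, (mul_comm _ _).trans (hr i).symm⟩
    have hzero : χ (MvPolynomial.aeval Y F) = 0 := by
      have h1 := Ideal.mem_map_of_mem χ hFf
      rw [Ideal.map_pow] at h1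
      have h2 := Ideal.pow_right_mono hχm (n + 1 + 1) h1
      rw [Ideal.span_singleton_pow, T_pow, Ideal.mem_span_singleton', ] at h2
      obtain ⟨q, hq⟩ := h2
      rw [mul_zero, map_sub, show χ f = 0 by change ψ (π f) = 0; rw [RingHom.mem_ker.mp hf, map_zero], zero_sub] at hq
      exact neg_eq_zero.mp hq.symm
    have hexp : χ (MvPolynomial.aeval Y F) = MvPolynomial.eval v F • T k (n + 2) ^ (n + 1) := by
      rw [← AlgHom.comp_apply, MvPolynomial.comp_aeval, show (fun i => χ (Y i)) = fun i => T k (n + 2) * (algebraMap k _ (v i) + T k (n + 2) * r i) from funext hr]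
      let w : Fin d → Jet k (n + 2) := fun i => algebraMap k _ (v i) + T k (n + 2) * r i
      have hhom : MvPolynomial.aeval (fun i => T k (n + 2) * w i) F = T k (n + 2) ^ (n + 1) * MvPolynomial.aeval w F := by
        rw [MvPolynomial.aeval_def, MvPolynomial.aeval_def, MvPolynomial.eval₂_eq, MvPolynomial.eval₂_eq, Finset.mul_sum]
        refine Finset.sum_congr rfl fun s hs => ?_
        have hdeg := hF (MvPolynomial.mem_support_iff.mp hs)
        simp only [mul_pow, Finset.prod_mul_distrib, Finset.prod_pow_eq_pow_sum]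
        have : ∑ i ∈ s.support, s i = n + 1 := by
          rw [show n + 1 = n.succ from rfl, ← hdeg, Finsupp.weight_apply]
          simp [Finsupp.sum]
        rw [this]
        ring
      change MvPolynomial.aeval (fun i => T k (n + 2) * w i) F = _
      rw [hhom]
      let θ : Jet k (n + 2) →ₐ[k] Jet k (n + 2) ⧸ Ideal.span {T k (n + 2)} := Ideal.Quotient.mkₐ k _
      have hcomp : θ.comp (MvPolynomial.aeval w) =
          (θ.comp (Algebra.ofId k (Jet k (n + 2)))).comp (MvPolynomial.aeval v) := MvPolynomial.algHom_ext fun i => by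
        change θ (MvPolynomial.aeval w (MvPolynomial.X i)) =
          θ (algebraMap k (Jet k (n + 2)) (MvPolynomial.aeval v (MvPolynomial.X i)))
        rw [MvPolynomial.aeval_X, MvPolynomial.aeval_X]
        change θ (algebraMap k _ (v i) + T k (n + 2) * r i) = _
        refine Ideal.Quotient.eq.mpr ?_
        rw [add_sub_cancel_left]
        exact Ideal.mul_mem_right _ _ (Ideal.mem_span_singleton_self _)
      have hθ : θ (MvPolynomial.aeval w F) = θ (algebraMap k (Jet k (n + 2)) (MvPolynomial.eval v F)) := by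
        refine (AlgHom.congr_fun hcomp F).trans ?_
        change θ (algebraMap k _ (MvPolynomial.aeval v F)) = _
        rw [MvPolynomial.aeval_eq_eval]
      rw [Ideal.Quotient.mkₐ_eq_mk, Ideal.Quotient.eq, Ideal.mem_span_singleton'] at hθ
      obtain ⟨q, hq⟩ := hθ
      rw [smul_eq]
      linear_combination -(T k (n + 2) ^ (n + 1)) * hq + q * T_pow (k := k) (n + 2)
    exact smul_T_pow_eq_zero (hexp.symm.trans hzero)

end Local

section Converse

open IsLocalRing

variable {A : Type u} [CommRing A] [Algebra k A] [Algebra.EssFiniteType k A]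

theorem exists_lift_jet [IsRegularLocalRing A] (hres : Function.Surjective (algebraMap k (ResidueField A)))
    {l : ℕ} (hl : 1 ≤ l) (φ : A →ₐ[k] Jet k l) : ∃ ψ : A →ₐ[k] Jet k (l + 1), (red k l).comp ψ = φ := by
  haveI := formallySmooth_of_regular (k := k) (A := A) hres
  have hnil : IsNilpotent (RingHom.ker (red k l : Jet k (l + 1) →+* Jet k l)) := ⟨2, ker_red_sq hl⟩
  exact ⟨Algebra.FormallySmooth.liftOfSurjective φ (red k l) (surjective_red l) hnil,
    AlgHom.ext fun a => Algebra.FormallySmooth.liftOfSurjective_apply φ (red k l) (surjective_red l) hnil a⟩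

end Converse

end Groth.Agent.H24Obs.Jets
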