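import Groth.Agent.H24Obs.LocalPresentation
import Groth.Agent.H24Art.Basic
import Groth.Agent.S9442

/-! Regularity at a rational point against lifting along square-zero extensions of Artinian algebras. -/

set_option autoImplicit false
set_option linter.style.haveILetI false

universe u

open IsLocalRing

noncomputable section

namespace Groth.Agent.H24Obs

variable {k A : Type u} [Field k] [CommRing A] [IsLocalRing A] [Algebra k A] [Algebra.EssFiniteType k A]

theorem formallySmooth_of_regular [IsRegularLocalRing A]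
    (hres : Function.Surjective (algebraMap k (ResidueField A))) : Algebra.FormallySmooth k A := by
  obtain ⟨P, _, _, _, _, _, π, hπ⟩ := exists_smooth_cover k A
  letI : Algebra P A := π.toRingHom.toAlgebra
  haveI : IsScalarTower k P A := IsScalarTower.of_algebraMap_eq fun c => (π.commutes c).symm
  haveI : Algebra.FormallySmooth k (ResidueField A) :=
    Algebra.FormallySmooth.of_equiv
      (AlgEquiv.ofBijective (Algebra.ofId k (ResidueField A)) ⟨(algebraMap k _).injective, hres⟩)
  exact Groth.Agent.S9442.smooth_of_regular_quotient k P A hπ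

theorem isRegularLocalRing_of_lift (hres : Function.Surjective (algebraMap k (ResidueField A)))
    (H : ∀ (B' : Type u) [CommRing B'] [IsLocalRing B'] [Algebra k B'] [Module.Finite k B']
        (J : Ideal B'), J ^ 2 = ⊥ → ∀ f : A →ₐ[k] B' ⧸ J,
          ∃ g : A →ₐ[k] B', (Ideal.Quotient.mkₐ k J).comp g = f) : IsRegularLocalRing A := by
  obtain ⟨P, _, _, _, π, hπ, hker⟩ := exists_regular_presentation k A
  haveI : IsLocalHom (π : P →+* A) := IsLocalHom.of_surjective _ hπ
  have hresP : ∀ x : P, ∃ c : k, x - algebraMap k P c ∈ maximalIdeal P := fun x => by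
    obtain ⟨c, hc⟩ := hres (residue A (π x))
    refine ⟨c, (mem_maximalIdeal _).mpr fun hu => ?_⟩
    refine (mem_maximalIdeal _).mp ((residue_eq_zero_iff (π (x - algebraMap k P c))).mp ?_) (hu.map π)
    rw [map_sub, AlgHom.commutes, map_sub, ← hc, IsScalarTower.algebraMap_apply k A (ResidueField A)]
    exact sub_self _
  have hr : (RingHom.ker π).spanFinrank ≤ 0 := by
    refine spanFinrank_le_of_lift (k := k) _ hker 0 fun n hn => ⟨Fin.elim0, fun i => i.elim0, ?_⟩
    let I := RingHom.ker π
    let L := maximalIdeal P * I ⊔ maximalIdeal P ^ n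
    have hI1 : I ≤ maximalIdeal P := hker.trans (Ideal.pow_le_self two_ne_zero)
    have hLm : L ≤ maximalIdeal P := sup_le Ideal.mul_le_left (Ideal.pow_le_self (Nat.one_le_iff_ne_zero.mp hn))
    have hLt : L ≠ ⊤ := fun h => (maximalIdeal.isMaximal P).ne_top (top_le_iff.mp (h ▸ hLm))
    haveI : Nontrivial (P ⧸ L) := Ideal.Quotient.nontrivial_iff.mpr hLt
    haveI : IsLocalRing (P ⧸ L) := IsLocalRing.of_surjective' _ Ideal.Quotient.mk_surjective
    haveI : IsArtinianRing (P ⧸ L) := isArtinianRing_quotient le_sup_right hLt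
    choose c hc using hresP
    have huniq : ∀ x e, x - algebraMap k P e ∈ maximalIdeal P → c x = e := fun x e he => by
      by_contra hne
      have h1 := sub_mem he (hc x)
      rw [sub_sub_sub_cancel_left, ← map_sub] at h1
      exact (mem_maximalIdeal _).mp h1 ((Ne.isUnit (sub_ne_zero.mpr hne)).map _)
    let ρ : P →ₐ[k] k :=
      { toFun := c
        map_one' := huniq 1 1 (by simp)
        map_mul' := fun x y => huniq _ _ (by
          rw [map_mul, show x * y - algebraMap k P (c x) * algebraMap k P (c y) =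
            x * (y - algebraMap k P (c y)) + algebraMap k P (c y) * (x - algebraMap k P (c x)) by ring]
          exact add_mem (Ideal.mul_mem_left _ _ (hc y)) (Ideal.mul_mem_left _ _ (hc x)))
        map_zero' := huniq 0 0 (by simp)
        map_add' := fun x y => huniq _ _ (by rw [map_add, add_sub_add_comm]; exact add_mem (hc x) (hc y))
        commutes' := fun e => huniq _ _ (by simp) }
    let resC : P ⧸ L →ₐ[k] k := Ideal.Quotient.liftₐ L ρ fun a ha => huniq a 0 (by simpa using hLm ha)
    haveI : Module.Finite k (P ⧸ L) := Groth.Agent.H24Art.moduleFinite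
      (ArtFun.Art.of (P ⧸ L) resC fun e => ⟨algebraMap k _ e, resC.commutes e⟩)
    let J : Ideal (P ⧸ L) := I.map (Ideal.Quotient.mk L)
    have hJ2 : J ^ 2 = ⊥ := by
      rw [← Ideal.map_pow, Ideal.map_eq_bot_iff_le_ker, Ideal.mk_ker, pow_two]
      exact (Ideal.mul_mono_left hI1).trans le_sup_left
    let f : A →ₐ[k] (P ⧸ L) ⧸ J := π.liftOfSurjective hπ
      ((Ideal.Quotient.mkₐ k J).comp (Ideal.Quotient.mkₐ k L)) fun a ha =>
        Ideal.Quotient.eq_zero_iff_mem.mpr (Ideal.mem_map_of_mem _ ha)
    obtain ⟨g, hg⟩ := H (P ⧸ L) J hJ2 f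
    refine ⟨(Ideal.Quotient.factorₐ k (le_sup_right : L ≤ Ideal.span (Set.range (Fin.elim0 : Fin 0 → P)) ⊔ L)).comp
      (g.comp (Ideal.Quotient.liftₐ I π fun a ha => ha)), fun x y hxy => ?_⟩
    obtain ⟨z, hz⟩ := Ideal.Quotient.mk_surjective (g (π x))
    have h1 : Ideal.Quotient.mk J (Ideal.Quotient.mk L z) = Ideal.Quotient.mk J (Ideal.Quotient.mk L x) := by
      rw [hz]
      exact (AlgHom.congr_fun hg (π x)).trans (AlgHom.liftOfSurjective_apply _ _ _ _ _)
    rw [Ideal.Quotient.eq, ← map_sub, Ideal.mem_quotient_iff_mem_sup] at h1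
    have h2 : Ideal.Quotient.mk (Ideal.span (Set.range (Fin.elim0 : Fin 0 → P)) ⊔ L) y = Ideal.Quotient.mk _ z := by
      rw [← hxy]
      change Ideal.Quotient.factorₐ k (le_sup_right : L ≤ Ideal.span (Set.range (Fin.elim0 : Fin 0 → P)) ⊔ L) (g (π x)) = _
      rw [← hz]; rfl
    have h3 : Ideal.span (Set.range (Fin.elim0 : Fin 0 → P)) ⊔ L ≤ I ⊔ maximalIdeal P ^ n :=
      sup_le ((Ideal.span_le.mpr (by rintro _ ⟨i, rfl⟩; exact i.elim0)).trans le_sup_left)
        (sup_le (Ideal.mul_le_right.trans le_sup_left) le_sup_right)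
    have h4 := add_mem (h3 (Ideal.Quotient.eq.mp h2)) ((sup_le le_sup_left (le_sup_right.trans h3)) h1)
    rwa [sub_add_sub_cancel] at h4
  have hbot : RingHom.ker π = ⊥ :=
    (Submodule.spanFinrank_eq_zero_iff_eq_bot (IsNoetherian.noetherian _)).mp (Nat.le_zero.mp hr)
  exact IsRegularLocalRing.of_ringEquiv
    (RingEquiv.ofBijective (π : P →+* A) ⟨(RingHom.injective_iff_ker_eq_bot _).mpr hbot, hπ⟩)

end Groth.Agent.H24Obs
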